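import Cfsg.Agent.Lib.InvChar.HallJanko.Four
import Cfsg.Agent.Lib.InvChar.HallJanko.A5Pairs
import Cfsg.Agent.S3277

/-!
The centraliser of an involution `t` not conjugate to `z`: of order `48` with `K` fixing a four-group,
or `E × K` with `E` a four-group and `K ≅ A₅`.
-/

set_option autoImplicit false
set_option linter.unusedSectionVars false
set_option linter.style.haveILetI false

open Cfsg
open scoped IsMulCommutative

namespace CfsgLib.InvChar.HallJanko

universe u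

variable {G : Type u} [Group G] [Finite G]

/-- The data attached to a commuting pair `(z, t)` of involutions of the two classes. -/
structure TData (z t : G) where
  /-- `C(t) ∩ C(z)` -/
  U : Subgroup G
  s : G
  d : G
  U_eq : U = Subgroup.centralizer ({t} : Set G) ⊓ Subgroup.centralizer ({z} : Set G)
  card_U : Nat.card U = 16
  exp_U : ∀ u ∈ U, u * u = 1
  comm_U : ∀ u ∈ U, ∀ w ∈ U, u * w = w * u
  t_mem : t ∈ U
  t_ne : t ≠ 1
  s_mem : s ∈ U
  s_ne_one : s ≠ 1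
  s_ne_z : s ≠ z
  zconj : ∀ u ∈ U, IsConj z u ↔ u = z ∨ u = s ∨ u = s * z
  centralizer_eq : ∀ v, v = z ∨ v = s ∨ v = s * z →
    Subgroup.centralizer ({t} : Set G) ⊓ Subgroup.centralizer ({v} : Set G) = U
  trans : ∀ v ∈ Subgroup.centralizer ({t} : Set G), IsConj z v →
    ∃ g ∈ Subgroup.centralizer ({t} : Set G), g * z * g⁻¹ = v
  d_mem : d ∈ Subgroup.centralizer ({t} : Set G)
  d_cube : d * d * d = 1
  d_z : d * z * d⁻¹ = s
  d_s : d * s * d⁻¹ = s * z
  sylow : ∀ S : Subgroup G, IsPGroup 2 S → S ≤ Subgroup.centralizer ({t} : Set G) → U ≤ S → S = U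
  norm : ∀ g ∈ Subgroup.centralizer ({t} : Set G), (∀ u ∈ U, g * u * g⁻¹ ∈ U) →
    ∃ u ∈ U, g = u ∨ g = d * u ∨ g = d * d * u

theorem orderOf_isConj {x y : G} (hxy : IsConj x y) : orderOf x = orderOf y := by
  obtain ⟨g, rfl⟩ := isConj_iff.1 hxy
  exact (orderOf_conj' g x).symm

theorem conj_conj (g h x : G) : g * (h * x * h⁻¹) * g⁻¹ = g * h * x * (g * h)⁻¹ := by group

namespace HJ

variable {z : G} {Q : Subgroup G} (h : HJ z Q)
include h

theorem nonempty_tdata {t : G} (htH : t ∈ Subgroup.centralizer ({z} : Set G)) (htQ : t ∉ Q)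
    (htt : t * t = 1) : Nonempty (TData z t) := by
  classical
  haveI := Fact.mk Nat.prime_two
  obtain ⟨s, hsQ, hss, hs1, hsz, hts, hCQ, hU16, hUs⟩ := h.four_structure htH htQ htt
  set U := Subgroup.centralizer ({t} : Set G) ⊓ Subgroup.centralizer ({z} : Set G) with hU
  have hexp : ∀ u ∈ U, u * u = 1 := fun u hu => h.elementary htH htQ htt hu
  have hinv : ∀ u ∈ U, u⁻¹ = u := fun u hu => inv_eq_of_mul_eq_one_right (hexp u hu)
  have hcommU : ∀ u ∈ U, ∀ w ∈ U, u * w = w * u := fun u hu w hw => by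
    rw [← hinv _ (U.mul_mem hu hw), mul_inv_rev, hinv u hu, hinv w hw]
  have hsC : s ∈ Subgroup.centralizer ({z} : Set G) := h.le hsQ
  have hsU : s ∈ U := Subgroup.mem_inf.2 ⟨mem_C.2 hts.symm, hsC⟩
  have hzU : z ∈ U := Subgroup.mem_inf.2 ⟨mem_C.2 (mem_C.1 htH).symm, mem_C.2 rfl⟩
  have htU : t ∈ U := Subgroup.mem_inf.2 ⟨mem_C.2 rfl, htH⟩
  have hsz1 : s * z ≠ 1 := fun e => hsz ((eq_inv_of_mul_eq_one_left e).trans
    (inv_eq_of_mul_eq_one_right h.zz))
  have hszz : s * z ≠ z := fun e => hs1 (mul_eq_right.1 e)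
  have hszs : s * z ≠ s := fun e => h.z_ne_one (mul_eq_left.1 e)
  have hzconj : ∀ u ∈ U, IsConj z u ↔ u = z ∨ u = s ∨ u = s * z := by
    intro u hu
    constructor
    · intro hc
      have huo : orderOf u = 2 := (orderOf_isConj hc).symm.trans h.order
      rcases hCQ u ((h.isConj_z_iff hu.2 huo).1 hc) (mem_C.1 hu.1).symm with e | e | e | e
      · rw [e, orderOf_one] at huo
        omega
      exacts [Or.inl e, Or.inr (Or.inl e), Or.inr (Or.inr e)]
    · rintro (rfl | rfl | rfl)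
      · exact IsConj.refl _
      · exact h.isConj_z_of_mem hsQ (orderOf_two hss hs1)
      · exact h.isConj_z_of_mem (Q.mul_mem hsQ h.z_mem)
          (orderOf_two (hexp _ (U.mul_mem hsU hzU)) hsz1)
  have htrans : ∀ v ∈ Subgroup.centralizer ({t} : Set G), IsConj z v →
      ∃ g ∈ Subgroup.centralizer ({t} : Set G), g * z * g⁻¹ = v := by
    intro v hv hc
    obtain ⟨c, hcv⟩ := isConj_iff.1 hc
    set t' := c⁻¹ * t * c with ht'
    have ht'H : t' ∈ Subgroup.centralizer ({z} : Set G) := by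
      rw [mem_C, ht', show z = c⁻¹ * v * c by rw [← hcv]; group,
        show c⁻¹ * t * c * (c⁻¹ * v * c) = c⁻¹ * (t * v) * c by group, ← mem_C.1 hv]
      group
    have ht't' : t' * t' = 1 := by
      rw [ht', show c⁻¹ * t * c * (c⁻¹ * t * c) = c⁻¹ * (t * t) * c by group, htt, mul_one,
        inv_mul_cancel]
    have ht'Q : t' ∉ Q := fun hq => h.not_isConj_z htH htQ htt
      ((h.isConj_z_of_mem hq (orderOf_two ht't' fun e => htQ (by
        have : t = 1 := by
          rw [show t = c * t' * c⁻¹ by rw [ht']; group, e, mul_one, mul_inv_cancel]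
        exact this ▸ Q.one_mem))).trans (isConj_iff.2 ⟨c, by rw [ht']; group⟩))
    obtain ⟨g, hg, e⟩ := h.exists_conj_C htH htQ htt ht'H ht'Q ht't'
    refine ⟨c * g, mem_C.2 ?_, ?_⟩
    · calc c * g * t = c * (g * t * g⁻¹) * g := by group
        _ = t * (c * g) := by rw [e, ht']; group
    · calc c * g * z * (c * g)⁻¹ = c * (g * z) * g⁻¹ * c⁻¹ := by group
        _ = v := by rw [mem_C.1 hg, ← hcv]; group
  have hcent : ∀ v, v = z ∨ v = s ∨ v = s * z →
      Subgroup.centralizer ({t} : Set G) ⊓ Subgroup.centralizer ({v} : Set G) = U := by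
    intro v hv
    have hvU : v ∈ U := by rcases hv with rfl | rfl | rfl; exacts [hzU, hsU, U.mul_mem hsU hzU]
    obtain ⟨g, hg, hgv⟩ := htrans v hvU.1 ((hzconj v hvU).2 hv)
    have hgt : g * t * g⁻¹ = t := by rw [mem_C.1 hg, mul_inv_cancel_right]
    have hmap : U.map (MulAut.conj g).toMonoidHom =
        Subgroup.centralizer ({t} : Set G) ⊓ Subgroup.centralizer ({v} : Set G) := by
      rw [hU, Subgroup.map_inf _ _ _ (MulAut.conj g).injective, map_conj_centralizer,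
        map_conj_centralizer, hgt, hgv]
    refine (Subgroup.eq_of_le_of_card_ge (fun u (hu : u ∈ U) => Subgroup.mem_inf.2
      ⟨hu.1, mem_C.2 (hcommU u hu v hvU)⟩) ?_).symm
    rw [← hmap, Subgroup.card_map_of_injective (MulAut.conj g).injective]
  have hperm : ∀ g ∈ Subgroup.centralizer ({t} : Set G), (∀ u ∈ U, g * u * g⁻¹ ∈ U) →
      ∀ v, v = z ∨ v = s ∨ v = s * z →
        (g * v * g⁻¹ = z ∨ g * v * g⁻¹ = s ∨ g * v * g⁻¹ = s * z) ∧ (g * v * g⁻¹ = v → g ∈ U) := by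
    intro g hg hn v hv
    have hvU : v ∈ U := by rcases hv with rfl | rfl | rfl; exacts [hzU, hsU, U.mul_mem hsU hzU]
    refine ⟨(hzconj _ (hn v hvU)).1 (((hzconj v hvU).2 hv).trans (isConj_iff.2 ⟨g, rfl⟩)), fun e => ?_⟩
    rw [← hcent v hv]
    exact Subgroup.mem_inf.2 ⟨hg, mem_C.2 (mul_inv_eq_iff_eq_mul.1 e)⟩
  obtain ⟨g, hg, hgz⟩ := htrans s hsU.1 ((hzconj s hsU).2 (Or.inr (Or.inl rfl)))
  have hgn : ∀ u ∈ U, g * u * g⁻¹ ∈ U := by
    intro u hu
    rw [← hcent s (Or.inr (Or.inl rfl)), ← hgz]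
    exact Subgroup.mem_inf.2 ⟨Subgroup.mul_mem _ (Subgroup.mul_mem _ hg hu.1)
      (Subgroup.inv_mem _ hg), conj_mem_centralizer hu.2⟩
  have hgs : g * s * g⁻¹ = s * z := by
    rcases (hperm g hg hgn s (Or.inr (Or.inl rfl))).1 with e | e | e
    · exfalso
      have e3 : g * (s * z) * g⁻¹ = s * z := by
        rw [show g * (s * z) * g⁻¹ = g * s * g⁻¹ * (g * z * g⁻¹) by group, e, hgz]
        exact hcommU z hzU s hsU
      have hgU := (hperm g hg hgn _ (Or.inr (Or.inr rfl))).2 e3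
      rw [hcommU g hgU z hzU, mul_inv_cancel_right] at hgz
      exact hsz hgz.symm
    · exact absurd (mul_left_cancel (mul_right_cancel (e.trans hgz.symm))) hsz
    · exact e
  have hgsz : g * (s * z) * g⁻¹ = z := by
    rw [show g * (s * z) * g⁻¹ = g * s * g⁻¹ * (g * z * g⁻¹) by group, hgs, hgz,
      hcommU s hsU z hzU, mul_assoc, hss, mul_one]
  have hg3 : g * g * g ∈ U := by
    refine Subgroup.mem_inf.2 ⟨Subgroup.mul_mem _ (Subgroup.mul_mem _ hg hg) hg, mem_C.2 ?_⟩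
    refine mul_inv_eq_iff_eq_mul.1 ?_
    rw [show g * g * g * z * (g * g * g)⁻¹ = g * (g * (g * z * g⁻¹) * g⁻¹) * g⁻¹ by group, hgz, hgs,
      hgsz]
  set d := g * (g * g * g) with hd
  have hdC : d ∈ Subgroup.centralizer ({t} : Set G) := Subgroup.mul_mem _ hg hg3.1
  have hdv : ∀ v ∈ U, d * v * d⁻¹ = g * v * g⁻¹ := fun v hv => by
    rw [hd, ← conj_conj, hcommU _ hg3 v hv, mul_inv_cancel_right]
  have hd3 : d * d * d = 1 := by
    rw [hd, show g * (g * g * g) * (g * (g * g * g)) * (g * (g * g * g)) =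
      (g * g * g * (g * g * g)) * (g * g * g * (g * g * g)) by group, hexp _ hg3, one_mul]
  have hdz : d * z * d⁻¹ = s := by rw [hdv z hzU, hgz]
  have hds : d * s * d⁻¹ = s * z := by rw [hdv s hsU, hgs]
  have hdn : ∀ u ∈ U, d * u * d⁻¹ ∈ U := fun u hu => by rw [hdv u hu]; exact hgn u hu
  refine ⟨{ U := U, s := s, d := d, U_eq := rfl, card_U := hU16, exp_U := hexp, comm_U := hcommU,
            t_mem := htU, t_ne := fun e => htQ (e ▸ Q.one_mem), s_mem := hsU, s_ne_one := hs1, s_ne_z := hsz, zconj := hzconj,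
            centralizer_eq := hcent, trans := htrans, d_mem := hdC, d_cube := hd3, d_z := hdz,
            d_s := hds, sylow := ?_, norm := ?_ }⟩
  · intro S hSp hSC hUS
    by_contra hne
    haveI : Group.IsNilpotent ↥S := hSp.isNilpotent
    have hlt : U.subgroupOf S < ⊤ := lt_top_iff_ne_top.2 fun e =>
      hne (le_antisymm (Subgroup.subgroupOf_eq_top.1 e) hUS)
    obtain ⟨y, hy, hyU⟩ := SetLike.exists_of_lt (Group.normalizerCondition_of_isNilpotent _ hlt)
    rw [Subgroup.mem_normalizer_iff] at hy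
    have hyC := hSC y.2
    have hyn : ∀ u ∈ U, (y : G) * u * (y : G)⁻¹ ∈ U := fun u hu => (hy ⟨u, hUS hu⟩).1 hu
    have hp := fun v hv => hperm (y : G) hyC hyn v hv
    have hy3 : (y : G) * y * y ∈ U := by
      refine Subgroup.mem_inf.2
        ⟨Subgroup.mul_mem _ (Subgroup.mul_mem _ hyC hyC) hyC, mem_C.2 (mul_inv_eq_iff_eq_mul.1 ?_)⟩
      rw [← conj_conj, ← conj_conj]
      obtain ⟨h1, h1'⟩ := hp z (Or.inl rfl)
      obtain ⟨h2, h2'⟩ := hp s (Or.inr (Or.inl rfl))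
      obtain ⟨h3, h3'⟩ := hp (s * z) (Or.inr (Or.inr rfl))
      have inj : ∀ v w : G, (y : G) * v * (y : G)⁻¹ = (y : G) * w * (y : G)⁻¹ → v = w :=
        fun v w e => mul_left_cancel (mul_right_cancel e)
      rcases h1 with e | e | e
      · exact absurd (h1' e) hyU
      · rw [e]
        rcases h2 with e2 | e2 | e2
        · rcases h3 with e3 | e3 | e3
          · exact absurd (inj _ _ (e3.trans e2.symm)) hszs
          · exact absurd (inj _ _ (e3.trans e.symm)) hszz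
          · exact absurd (h3' e3) hyU
        · exact absurd (h2' e2) hyU
        · rw [e2]
          rcases h3 with e3 | e3 | e3
          · exact e3
          · exact absurd (inj _ _ (e3.trans e.symm)) hszz
          · exact absurd (h3' e3) hyU
      · rw [e]
        rcases h3 with e3 | e3 | e3
        · rcases h2 with e2 | e2 | e2
          · exact absurd (inj _ _ (e2.trans e3.symm)) hszs.symm
          · exact absurd (h2' e2) hyU
          · exact absurd (inj _ _ (e2.trans e.symm)) hsz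
        · rw [e3]
          rcases h2 with e2 | e2 | e2
          · exact e2
          · exact absurd (h2' e2) hyU
          · exact absurd (inj _ _ (e2.trans e.symm)) hsz
        · exact absurd (h3' e3) hyU
    obtain ⟨n, hn⟩ := hSp y
    have hco : Nat.Coprime 3 (orderOf (y : G)) := by
      refine Nat.Coprime.coprime_dvd_right (orderOf_dvd_of_pow_eq_one
        (show (y : G) ^ 2 ^ n = 1 by rw [← Subgroup.coe_pow, hn, Subgroup.coe_one])) ?_
      exact Nat.Coprime.pow_right n (by norm_num)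
    obtain ⟨m, hm⟩ := exists_pow_eq_self_of_coprime (x := (y : G)) hco
    have h3e : (y : G) ^ 3 = (y : G) * y * y := pow_three' _
    apply hyU
    show (y : G) ∈ U
    rw [← hm, h3e]
    exact U.pow_mem hy3 m
  · intro c hc hcn
    obtain ⟨h1, h1'⟩ := hperm c hc hcn z (Or.inl rfl)
    have hdi : d⁻¹ ∈ Subgroup.centralizer ({t} : Set G) := Subgroup.inv_mem _ hdC
    rcases h1 with e | e | e
    · exact ⟨c, h1' e, Or.inl rfl⟩
    · refine ⟨d⁻¹ * c, ?_, Or.inr (Or.inl (by group))⟩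
      refine Subgroup.mem_inf.2 ⟨Subgroup.mul_mem _ hdi hc, mem_C.2 (mul_inv_eq_iff_eq_mul.1 ?_)⟩
      rw [← conj_conj, e, ← hdz]
      group
    · refine ⟨(d * d)⁻¹ * c, ?_, Or.inr (Or.inr (by group))⟩
      refine Subgroup.mem_inf.2 ⟨Subgroup.mul_mem _ (Subgroup.inv_mem _ (Subgroup.mul_mem _ hdC hdC)) hc,
        mem_C.2 (mul_inv_eq_iff_eq_mul.1 ?_)⟩
      rw [← conj_conj, e, ← hds, ← hdz]
      group

end HJ

namespace TData

variable {z t : G} (D : TData z t)
include D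

theorem z_mem : z ∈ D.U := by
  rw [D.U_eq]
  refine Subgroup.mem_inf.2 ⟨?_, mem_C.2 rfl⟩
  have hs2 := D.s_mem
  rw [D.U_eq] at hs2
  have hs := hs2.1
  have hd := D.d_mem
  have e : z = D.d⁻¹ * D.s * D.d := by rw [← D.d_z]; group
  rw [e]
  exact Subgroup.mul_mem _ (Subgroup.mul_mem _ (Subgroup.inv_mem _ hd) hs) hd

theorem U_le : D.U ≤ Subgroup.centralizer ({t} : Set G) := D.U_eq ▸ inf_le_left

theorem d_sz : D.d * (D.s * z) * D.d⁻¹ = z := by
  rw [show D.d * (D.s * z) * D.d⁻¹ = D.d * D.s * D.d⁻¹ * (D.d * z * D.d⁻¹) by group, D.d_s, D.d_z,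
    D.comm_U _ D.s_mem z D.z_mem, mul_assoc, D.exp_U _ D.s_mem, mul_one]

theorem d_norm {u : G} (hu : u ∈ D.U) : D.d * u * D.d⁻¹ ∈ D.U := by
  rw [← D.centralizer_eq D.s (Or.inr (Or.inl rfl)), ← D.d_z]
  rw [D.U_eq] at hu
  exact Subgroup.mem_inf.2 ⟨Subgroup.mul_mem _ (Subgroup.mul_mem _ D.d_mem hu.1)
    (Subgroup.inv_mem _ D.d_mem), conj_mem_centralizer hu.2⟩

/-- `C_U(d)`. -/
def E : Subgroup G := D.U ⊓ Subgroup.centralizer ({D.d} : Set G)

theorem d_t : t ∈ D.E := Subgroup.mem_inf.2 ⟨D.t_mem, mem_C.2 (mem_C.1 D.d_mem).symm⟩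

/-- The average over `⟨d⟩`. -/
def avg (u : G) : G := u * (D.d * u * D.d⁻¹) * (D.d * (D.d * u * D.d⁻¹) * D.d⁻¹)

theorem avg_mem {u : G} (hu : u ∈ D.U) : D.avg u ∈ D.E := by
  have h1 := D.d_norm hu
  have h2 := D.d_norm h1
  have hm : D.avg u ∈ D.U := D.U.mul_mem (D.U.mul_mem hu h1) h2
  refine Subgroup.mem_inf.2 ⟨hm, mem_C.2 ((mul_inv_eq_iff_eq_mul).1 ?_).symm⟩
  have h3 : D.d * (D.d * (D.d * u * D.d⁻¹) * D.d⁻¹) * D.d⁻¹ = u := by
    rw [show D.d * (D.d * (D.d * u * D.d⁻¹) * D.d⁻¹) * D.d⁻¹ =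
      D.d * D.d * D.d * u * (D.d * D.d * D.d)⁻¹ by group, D.d_cube]
    group
  rw [avg, show D.d * (u * (D.d * u * D.d⁻¹) * (D.d * (D.d * u * D.d⁻¹) * D.d⁻¹)) * D.d⁻¹ =
    D.d * u * D.d⁻¹ * (D.d * (D.d * u * D.d⁻¹) * D.d⁻¹) *
      (D.d * (D.d * (D.d * u * D.d⁻¹) * D.d⁻¹) * D.d⁻¹) by group, h3,
    mul_assoc, D.comm_U _ h2 u hu, ← mul_assoc, ← D.comm_U u hu _ h1]

theorem avg_mul {u w : G} (hu : u ∈ D.U) (hw : w ∈ D.U) : D.avg (u * w) = D.avg u * D.avg w := by
  have h1 := D.d_norm hu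
  have h2 := D.d_norm h1
  have k1 := D.d_norm hw
  simp only [avg]
  rw [show D.d * (u * w) * D.d⁻¹ = D.d * u * D.d⁻¹ * (D.d * w * D.d⁻¹) by group]
  set a := D.d * u * D.d⁻¹
  set b := D.d * w * D.d⁻¹
  rw [show D.d * (a * b) * D.d⁻¹ = D.d * a * D.d⁻¹ * (D.d * b * D.d⁻¹) by group]
  set a' := D.d * a * D.d⁻¹
  set b' := D.d * b * D.d⁻¹
  calc u * w * (a * b) * (a' * b') = u * (w * a) * b * a' * b' := by group
    _ = u * a * ((w * b) * a') * b' := by rw [D.comm_U w hw a h1]; group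
    _ = u * a * a' * (w * b * b') := by
      rw [D.comm_U _ (D.U.mul_mem hw k1) a' h2]; group

theorem avg_fixed {u : G} (hu : u ∈ D.E) : D.avg u = u := by
  have h1 : D.d * u * D.d⁻¹ = u := mul_inv_eq_iff_eq_mul.2 (mem_C.1 hu.2).symm
  rw [avg, h1, h1, D.exp_U u hu.1, one_mul]

theorem avg_z : D.avg z = 1 := by
  rw [avg, D.d_z, D.d_s, D.comm_U z D.z_mem D.s D.s_mem]
  exact D.exp_U _ (D.U.mul_mem D.s_mem D.z_mem)

theorem avg_s : D.avg D.s = 1 := by
  rw [avg, D.d_s, D.d_sz, ← mul_assoc, D.exp_U _ D.s_mem, one_mul]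
  exact D.exp_U _ D.z_mem

theorem card_E (hne : z ≠ 1) : Nat.card D.E = 4 := by
  classical
  haveI : Fact (Nat.Prime 3) := ⟨by norm_num⟩
  let P := Subgroup.zpowers D.d
  have hP : IsPGroup 3 ↥P := by
    intro x
    obtain ⟨m, hm⟩ := Subgroup.mem_zpowers_iff.1 x.2
    refine ⟨1, Subtype.ext ?_⟩
    rw [Subgroup.coe_pow, ← hm, pow_one, ← zpow_natCast, ← zpow_mul, mul_comm, zpow_mul,
      zpow_natCast, pow_three', D.d_cube, one_zpow, Subgroup.coe_one]
  have hnm : ∀ g ∈ P, ∀ u ∈ D.U, g * u * g⁻¹ ∈ D.U := by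
    intro g hg
    rw [← mem_powers_iff_mem_zpowers] at hg
    obtain ⟨n, rfl⟩ := hg
    induction n with
    | zero => intro u hu; simpa using hu
    | succ n ih =>
      intro u hu
      show D.d ^ (n + 1) * u * (D.d ^ (n + 1))⁻¹ ∈ D.U
      rw [pow_succ, ← conj_conj]
      exact ih _ (D.d_norm hu)
  letI : MulAction ↥P ↥D.U :=
    { smul := fun g q => ⟨(g : G) * q * (g : G)⁻¹, hnm g g.2 q q.2⟩
      one_smul := fun q => Subtype.ext (show (1 : G) * q * (1 : G)⁻¹ = q by group)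
      mul_smul := fun g g' q => Subtype.ext (conj_conj (g : G) (g' : G) q).symm }
  have hfix : ∀ q : ↥D.U, q ∈ MulAction.fixedPoints ↥P ↥D.U ↔ (q : G) ∈ D.E := by
    intro q
    rw [MulAction.mem_fixedPoints]
    constructor
    · intro hq
      exact Subgroup.mem_inf.2 ⟨q.2, mem_C.2 (mul_inv_eq_iff_eq_mul.1
        (congrArg Subtype.val (hq ⟨D.d, Subgroup.mem_zpowers D.d⟩))).symm⟩
    · intro hq g
      obtain ⟨m, hm⟩ := Subgroup.mem_zpowers_iff.1 g.2
      refine Subtype.ext ?_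
      show (g : G) * q * (g : G)⁻¹ = q
      rw [← hm, ← ((show Commute (q : G) D.d from mem_C.1 hq.2).zpow_right m).eq,
        mul_inv_cancel_right]
  have e := hP.card_modEq_card_fixedPoints ↥D.U
  have e1 : Nat.card (MulAction.fixedPoints ↥P ↥D.U) = Nat.card D.E :=
    Nat.card_congr ⟨fun q => ⟨q.1, (hfix q.1).1 q.2⟩, fun q => ⟨⟨q, q.2.1⟩, (hfix _).2 q.2⟩,
      fun _ => rfl, fun _ => rfl⟩
  rw [D.card_U, e1] at e
  have hdvd : Nat.card D.E ∣ 2 ^ 4 := by
    rw [show (2 : ℕ) ^ 4 = 16 by norm_num, ← D.card_U]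
    exact Subgroup.card_dvd_of_le inf_le_left
  obtain ⟨k, hk, ek⟩ := (Nat.dvd_prime_pow Nat.prime_two).1 hdvd
  have hlt : Nat.card D.E ≠ 16 := fun e16 => by
    have hE : D.E = D.U := Subgroup.eq_of_le_of_card_ge inf_le_left (by rw [e16, D.card_U])
    have h1 := D.avg_fixed (hE.symm ▸ D.z_mem)
    rw [D.avg_z] at h1
    exact hne h1.symm
  have hne1 : Nat.card D.E ≠ 1 := fun e1' => D.t_ne (by
    have := Subgroup.card_eq_one.1 e1' ▸ D.d_t
    rwa [Subgroup.mem_bot] at this)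
  rw [ek] at e hlt hne1 ⊢
  interval_cases k <;> simp_all (config := { decide := true }) [Nat.ModEq]

end TData

end CfsgLib.InvChar.HallJanko
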