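import Cfsg.Agent.Lib.InvChar.HallJanko.CentT

/-!
The normal subgroup `K` of index `4` in `C(t)`, and the two possibilities for it.
-/

set_option autoImplicit false
set_option linter.unusedSectionVars false
set_option linter.style.haveILetI false

open Cfsg
open scoped IsMulCommutative

namespace CfsgLib.InvChar.HallJanko

universe u

variable {G : Type u} [Group G] [Finite G]

namespace TData

variable {z t : G} (D : TData z t)
include D

theorem four_mem {u : G} (hu : u = 1 ∨ u = z ∨ u = D.s ∨ u = D.s * z) : u ∈ D.U := by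
  rcases hu with rfl | rfl | rfl | rfl
  exacts [D.U.one_mem, D.z_mem, D.s_mem, D.U.mul_mem D.s_mem D.z_mem]

theorem avg_eq_one_iff (hne : z ≠ 1) {u : G} (hu : u ∈ D.U) :
    D.avg u = 1 ↔ u = 1 ∨ u = z ∨ u = D.s ∨ u = D.s * z := by
  classical
  constructor
  · intro hu1
    let f : ↥D.U →* G :=
      { toFun := fun w => D.avg w
        map_one' := by show D.avg 1 = 1; simp [avg]
        map_mul' := fun a b => D.avg_mul a.2 b.2 }
    have hr : f.range = D.E := by
      refine le_antisymm ?_ fun w hw => ⟨⟨w, hw.1⟩, D.avg_fixed hw⟩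
      rintro w ⟨a, rfl⟩
      exact D.avg_mem a.2
    have hcard : Nat.card f.ker = 4 := by
      have e := Subgroup.card_eq_card_quotient_mul_card_subgroup f.ker
      rw [D.card_U, Nat.card_congr (QuotientGroup.quotientKerEquivRange f).toEquiv, hr,
        D.card_E hne] at e
      omega
    let S : Finset G := {1, z, D.s, D.s * z}
    have hS : S.card = 4 := by
      have h3 : D.s * z ≠ 1 := fun e => D.s_ne_z
        ((eq_inv_of_mul_eq_one_left e).trans (inv_eq_of_mul_eq_one_right (D.exp_U _ D.z_mem)))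
      have h4 : D.s * z ≠ z := fun e => D.s_ne_one (mul_eq_right.1 e)
      have h5 : D.s * z ≠ D.s := fun e => hne (mul_eq_left.1 e)
      rw [Finset.card_insert_of_notMem (by simp [hne.symm, D.s_ne_one.symm, h3.symm]),
        Finset.card_insert_of_notMem (by simp [D.s_ne_z.symm, h4.symm]),
        Finset.card_insert_of_notMem (by simp [h5.symm]), Finset.card_singleton]
    haveI := Fintype.ofFinite ↥f.ker
    let T : Finset G := Finset.univ.image fun w : ↥f.ker => ((w.1 : ↥D.U) : G)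
    have hT : T.card = 4 := by
      rw [Finset.card_image_of_injective _ (fun a b e => Subtype.ext (Subtype.ext e)),
        Finset.card_univ, ← Nat.card_eq_fintype_card, hcard]
    have hST : S ⊆ T := by
      intro w hw
      simp only [S, Finset.mem_insert, Finset.mem_singleton] at hw
      refine Finset.mem_image.2 ⟨⟨⟨w, D.four_mem hw⟩, ?_⟩, Finset.mem_univ _, rfl⟩
      show D.avg w = 1
      rcases hw with rfl | rfl | rfl | rfl
      · simp [avg]
      · exact D.avg_z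
      · exact D.avg_s
      · rw [D.avg_mul D.s_mem D.z_mem, D.avg_s, D.avg_z, one_mul]
    have : u ∈ S := by
      rw [Finset.eq_of_subset_of_card_le hST (by rw [hS, hT])]
      exact Finset.mem_image.2 ⟨⟨⟨u, hu⟩, hu1⟩, Finset.mem_univ _, rfl⟩
    simpa [S] using this
  · rintro (rfl | rfl | rfl | rfl)
    · simp [avg]
    · exact D.avg_z
    · exact D.avg_s
    · rw [D.avg_mul D.s_mem D.z_mem, D.avg_s, D.avg_z, one_mul]

theorem d_pow_E {u : G} (hu : u ∈ D.E) : D.d * u = u * D.d := (mem_C.1 hu.2).symm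

theorem exists_K (hne : z ≠ 1) :
    ∃ K : Subgroup G, K ≤ Subgroup.centralizer ({t} : Set G) ∧
      (∀ g ∈ Subgroup.centralizer ({t} : Set G), ∀ k ∈ K, g * k * g⁻¹ ∈ K) ∧
      4 * Nat.card K = Nat.card (Subgroup.centralizer ({t} : Set G)) ∧
      (∀ u ∈ D.U, u ∈ K ↔ u = 1 ∨ u = z ∨ u = D.s ∨ u = D.s * z) ∧ D.d ∈ K ∧
      (∀ g ∈ Subgroup.centralizer ({t} : Set G), ∃ u ∈ D.E, ∃ k ∈ K, g = u * k) := by
  classical
  haveI := Fact.mk Nat.prime_two
  set L := Subgroup.centralizer ({t} : Set G) with hL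
  set P : Subgroup ↥L := D.U.subgroupOf L with hP
  have hPp : IsPGroup 2 ↥P := IsPGroup.of_equiv
    (IsPGroup.of_card (n := 4) (by rw [D.card_U]; norm_num)) (Subgroup.subgroupOfEquivOfLe D.U_le).symm
  obtain ⟨S, hS⟩ := hPp.exists_le_sylow
  have hSP : (S : Subgroup ↥L) = P := by
    refine le_antisymm ?_ hS
    have h1 := D.sylow ((S : Subgroup ↥L).map L.subtype) (S.isPGroup'.map _)
      (Subgroup.map_subtype_le _) (fun u hu => ⟨⟨u, D.U_le hu⟩, hS hu, rfl⟩)
    intro x hx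
    show (x : G) ∈ D.U
    rw [← h1]
    exact ⟨x, hx, rfl⟩
  have hodd : ¬ 2 ∣ P.index := hSP ▸ S.not_dvd_index
  haveI : IsMulCommutative ↥D.E := ⟨⟨fun a b => Subtype.ext (D.comm_U _ a.2.1 _ b.2.1)⟩⟩
  let ϕ : ↥P →* ↥D.E :=
    { toFun := fun w => ⟨D.avg ((w : ↥L) : G), D.avg_mem w.2⟩
      map_one' := Subtype.ext (by show D.avg 1 = 1; simp [avg])
      map_mul' := fun a b => Subtype.ext (D.avg_mul a.2 b.2) }
  let τ : ↥L →* ↥D.E := MonoidHom.transfer ϕ
  have hsq : ∀ e : ↥D.E, e * e = 1 := fun e => Subtype.ext (D.exp_U _ e.2.1)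
  have hτE : ∀ (u : G) (hu : u ∈ D.E), τ ⟨u, D.U_le hu.1⟩ = ⟨u, hu⟩ := by
    intro u hu
    haveI hPc : IsMulCommutative ↥(S : Subgroup ↥L) := ⟨⟨fun a b => Subtype.ext (Subtype.ext
      (D.comm_U _ (show ((a : ↥L) : G) ∈ D.U from hSP.le a.2) _
        (show ((b : ↥L) : G) ∈ D.U from hSP.le b.2)))⟩⟩
    have key : ∀ (k : ℕ) (g₀ : ↥L), g₀⁻¹ * (⟨u, D.U_le hu.1⟩ : ↥L) ^ k * g₀ ∈ P →
        g₀⁻¹ * (⟨u, D.U_le hu.1⟩ : ↥L) ^ k * g₀ = (⟨u, D.U_le hu.1⟩ : ↥L) ^ k := by
      intro k g₀ hk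
      set x : ↥L := (⟨u, D.U_le hu.1⟩ : ↥L) ^ k with hx
      have hxP : x ∈ (S : Subgroup ↥L) := hSP ▸ Subgroup.pow_mem P (show u ∈ D.U from hu.1) k
      obtain ⟨n, hn, e⟩ := S.conj_eq_normalizer_conj_of_mem x g₀ hxP
        (show g₀⁻¹ * x * g₀ ∈ (S : Subgroup ↥L) by rw [hSP]; exact hk)
      rw [e]
      have hnU : ∀ w ∈ D.U, (n : G) * w * (n : G)⁻¹ ∈ D.U := fun w hw => by
        have := (Subgroup.mem_normalizer_iff.1 hn ⟨w, D.U_le hw⟩).1
          (show (⟨w, D.U_le hw⟩ : ↥L) ∈ (S : Subgroup ↥L) by rw [hSP]; exact hw)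
        exact (hSP.le this : _)
      obtain ⟨w, hw, hcase⟩ := D.norm n n.2 hnU
      have hxd : Commute D.d (x : G) := by
        rw [hx, Subgroup.coe_pow]
        exact (show Commute D.d u from D.d_pow_E hu).pow_right k
      have hxw : Commute w (x : G) := by
        rw [hx, Subgroup.coe_pow]
        exact (show Commute w u from D.comm_U w hw u hu.1).pow_right k
      have hnx : Commute (n : G) (x : G) := by
        rcases hcase with e | e | e <;> rw [e]
        exacts [hxw, hxd.mul_left hxw, (hxd.mul_left hxd).mul_left hxw]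
      refine Subtype.ext ?_
      show (n : G)⁻¹ * (x : G) * (n : G) = (x : G)
      rw [mul_assoc, ← hnx.eq, inv_mul_cancel_left]
    show MonoidHom.transfer ϕ _ = _
    rw [MonoidHom.transfer_eq_pow ϕ _ key]
    refine Subtype.ext ?_
    show D.avg (((⟨u, D.U_le hu.1⟩ : ↥L) ^ P.index : ↥L) : G) = u
    rw [Subgroup.coe_pow]
    obtain ⟨m, hm⟩ : ∃ m, P.index = 2 * m + 1 :=
      ⟨P.index / 2, by omega⟩
    rw [hm, pow_add, pow_mul, pow_two, D.exp_U u hu.1, one_pow, one_mul, pow_one, D.avg_fixed hu]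
  have hinvt : ∀ (g : ↥L) (x : ↥L), τ (g * x * g⁻¹) = τ x := fun g x => by
    rw [map_mul, map_mul, map_inv, mul_comm (τ g), mul_inv_cancel_right]
  have hτV : τ ⟨z, D.U_le D.z_mem⟩ = 1 ∧ τ ⟨D.s, D.U_le D.s_mem⟩ = 1 := by
    set z' : ↥L := ⟨z, D.U_le D.z_mem⟩
    set s' : ↥L := ⟨D.s, D.U_le D.s_mem⟩
    set d' : ↥L := ⟨D.d, D.d_mem⟩
    have e1 : τ s' = τ z' := by
      rw [← hinvt d' z']; exact congrArg τ (Subtype.ext D.d_z.symm)
    have e2 : τ (s' * z') = τ s' := by
      rw [← hinvt d' s']; exact congrArg τ (Subtype.ext D.d_s.symm)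
    rw [map_mul] at e2
    have e3 : τ z' = 1 := mul_eq_left.1 e2
    exact ⟨e3, e1.trans e3⟩
  have hsurj : Function.Surjective τ := fun e => ⟨⟨e, D.U_le e.2.1⟩, hτE e e.2⟩
  refine ⟨τ.ker.map L.subtype, Subgroup.map_subtype_le _, ?_, ?_, ?_, ?_, ?_⟩
  · rintro g hg _ ⟨k, hk, rfl⟩
    exact ⟨⟨g, hg⟩ * k * ⟨g, hg⟩⁻¹, by
      rw [SetLike.mem_coe, MonoidHom.mem_ker, hinvt]; exact hk, rfl⟩
  · rw [Subgroup.card_map_of_injective L.subtype_injective,
      Subgroup.card_eq_card_quotient_mul_card_subgroup τ.ker,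
      Nat.card_congr (QuotientGroup.quotientKerEquivRange τ).toEquiv, MonoidHom.range_eq_top.2 hsurj,
      Subgroup.card_top, D.card_E hne]
  · intro u hu
    have hdec : τ ⟨u, D.U_le hu⟩ = ⟨D.avg u, D.avg_mem hu⟩ := by
      have hE : D.avg u ∈ D.U := (D.avg_mem hu).1
      have hv : D.avg u * u ∈ D.U := D.U.mul_mem hE hu
      have hv1 : D.avg (D.avg u * u) = 1 := by
        rw [D.avg_mul hE hu, D.avg_fixed (D.avg_mem hu), D.exp_U _ hE]
      have hτv : τ ⟨D.avg u * u, D.U_le hv⟩ = 1 := by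
        rcases (D.avg_eq_one_iff hne hv).1 hv1 with e | e | e | e
        · rw [show (⟨D.avg u * u, D.U_le hv⟩ : ↥L) = 1 from Subtype.ext e, map_one]
        · rw [show (⟨D.avg u * u, D.U_le hv⟩ : ↥L) = ⟨z, D.U_le D.z_mem⟩ from Subtype.ext e]
          exact hτV.1
        · rw [show (⟨D.avg u * u, D.U_le hv⟩ : ↥L) = ⟨D.s, D.U_le D.s_mem⟩ from Subtype.ext e]
          exact hτV.2
        · rw [show (⟨D.avg u * u, D.U_le hv⟩ : ↥L) =
            ⟨D.s, D.U_le D.s_mem⟩ * ⟨z, D.U_le D.z_mem⟩ from Subtype.ext e, map_mul, hτV.1, hτV.2,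
            one_mul]
      rw [show (⟨u, D.U_le hu⟩ : ↥L) = ⟨D.avg u, D.U_le hE⟩ * ⟨D.avg u * u, D.U_le hv⟩ from
        Subtype.ext (show u = D.avg u * (D.avg u * u) by rw [← mul_assoc, D.exp_U _ hE, one_mul]),
        map_mul, hτv, mul_one]
      exact hτE _ (D.avg_mem hu)
    rw [← D.avg_eq_one_iff hne hu]
    constructor
    · rintro ⟨k, hk, e⟩
      rw [show k = ⟨u, D.U_le hu⟩ from Subtype.ext e, SetLike.mem_coe, MonoidHom.mem_ker, hdec] at hk
      exact congrArg Subtype.val hk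
    · intro e
      exact ⟨⟨u, D.U_le hu⟩, by
        rw [SetLike.mem_coe, MonoidHom.mem_ker, hdec]; exact Subtype.ext e, rfl⟩
  · refine ⟨⟨D.d, D.d_mem⟩, ?_, rfl⟩
    rw [SetLike.mem_coe, MonoidHom.mem_ker]
    set d' : ↥L := ⟨D.d, D.d_mem⟩
    have e1 : τ d' * τ d' * τ d' = 1 := by
      rw [← map_mul, ← map_mul, ← map_one τ]
      exact congrArg τ (Subtype.ext D.d_cube)
    rwa [hsq, one_mul] at e1
  · intro g hg
    set e := τ ⟨g, hg⟩
    refine ⟨e, e.2, (e : G)⁻¹ * g, ⟨⟨(e : G), D.U_le e.2.1⟩⁻¹ * ⟨g, hg⟩, ?_, rfl⟩, by group⟩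
    rw [SetLike.mem_coe, MonoidHom.mem_ker, map_mul, map_inv, hτE _ e.2]
    exact inv_mul_cancel e

end TData

namespace HJ

variable {z : G} {Q : Subgroup G} (h : HJ z Q)
include h

/-- The two possibilities for `C(t)`. -/
theorem centralizer_dichotomy {t : G} (D : TData z t) :
    (Nat.card (Subgroup.centralizer ({t} : Set G)) = 48 ∧
      ∀ v ∈ Subgroup.centralizer ({t} : Set G), IsConj z v → v = z ∨ v = D.s ∨ v = D.s * z) ∨
    (Nat.card (Subgroup.centralizer ({t} : Set G)) = 240 ∧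
      ∃ K : Subgroup G, Nonempty (↥K ≃* alternatingGroup (Fin 5)) ∧
        K ≤ Subgroup.centralizer ({t} : Set G) ∧
        (∀ g ∈ Subgroup.centralizer ({t} : Set G), ∀ k ∈ K, g * k * g⁻¹ ∈ K) ∧
        D.d ∈ K ∧ z ∈ K ∧ D.s ∈ K ∧
        (∀ u ∈ D.U, u ∈ K ↔ u = 1 ∨ u = z ∨ u = D.s ∨ u = D.s * z) ∧
        (∀ g ∈ Subgroup.centralizer ({t} : Set G), ∃ u ∈ D.E, ∃ k ∈ K, g = u * k)) := by
  classical
  haveI := Fact.mk Nat.prime_two
  set L := Subgroup.centralizer ({t} : Set G) with hL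
  obtain ⟨K, hKL, hKn, hKcard, hKU, hdK, hKfac⟩ := D.exists_K h.z_ne_one
  have hzK : z ∈ K := (hKU z D.z_mem).2 (Or.inr (Or.inl rfl))
  have hsK : D.s ∈ K := (hKU D.s D.s_mem).2 (Or.inr (Or.inr (Or.inl rfl)))
  by_cases hV : ∀ g ∈ L, g * z * g⁻¹ ∈ D.U
  · left
    have hV3 : ∀ g ∈ L, g * z * g⁻¹ = z ∨ g * z * g⁻¹ = D.s ∨ g * z * g⁻¹ = D.s * z := fun g hg =>
      (D.zconj _ (hV g hg)).1 (isConj_iff.2 ⟨g, rfl⟩)
    refine ⟨?_, fun v hv hc => ?_⟩
    · haveI := Fintype.ofFinite G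
      let P : Subgroup ↥L := D.U.subgroupOf L
      have hPc : Nat.card P = 16 := by
        rw [Nat.card_congr (Subgroup.subgroupOfEquivOfLe D.U_le).toEquiv, D.card_U]
      let S : Finset G := {z, D.s, D.s * z}
      have hS : S.card = 3 := by
        have h4 : D.s * z ≠ z := fun e => D.s_ne_one (mul_eq_right.1 e)
        have h5 : D.s * z ≠ D.s := fun e => h.z_ne_one (mul_eq_left.1 e)
        rw [Finset.card_insert_of_notMem (by simp [D.s_ne_z.symm, h4.symm]),
          Finset.card_insert_of_notMem (by simp [h5.symm]), Finset.card_singleton]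
      have hiff : ∀ a b : ↥L, a⁻¹ * b ∈ P ↔ (a : G) * z * (a : G)⁻¹ = (b : G) * z * (b : G)⁻¹ := by
        intro a b
        show ((a : G)⁻¹ * (b : G)) ∈ D.U ↔ _
        constructor
        · intro hab
          have hc := D.comm_U _ hab z D.z_mem
          calc (a : G) * z * (a : G)⁻¹ = (a : G) * (z * ((a : G)⁻¹ * b)) * (b : G)⁻¹ := by group
            _ = (b : G) * z * (b : G)⁻¹ := by rw [← hc]; group
        · intro e
          rw [← D.centralizer_eq z (Or.inl rfl)]
          refine Subgroup.mem_inf.2 ⟨Subgroup.mul_mem _ (Subgroup.inv_mem _ a.2) b.2, mem_C.2 ?_⟩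
          calc (a : G)⁻¹ * b * z = (a : G)⁻¹ * ((b : G) * z * (b : G)⁻¹) * b := by group
            _ = z * ((a : G)⁻¹ * b) := by rw [← e]; group
      let f : ↥L ⧸ P → ↥S := fun q => Quotient.liftOn' q
        (fun a => ⟨(a : G) * z * (a : G)⁻¹, by
          simpa [S] using hV3 _ a.2⟩)
        (fun a b hab => Subtype.ext ((hiff a b).1 (QuotientGroup.leftRel_apply.1 hab)))
      have hf : Function.Bijective f := by
        constructor
        · intro p q
          induction p using QuotientGroup.induction_on with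
          | H a =>
            induction q using QuotientGroup.induction_on with
            | H b => intro e; exact QuotientGroup.eq.2 ((hiff a b).2 (congrArg Subtype.val e))
        · rintro ⟨v, hv⟩
          have hv' : v = z ∨ v = D.s ∨ v = D.s * z := by simpa [S] using hv
          rcases hv' with e | e | e
          · exact ⟨QuotientGroup.mk (1 : ↥L), Subtype.ext
              (show (1 : G) * z * (1 : G)⁻¹ = v by rw [e]; group)⟩
          · exact ⟨QuotientGroup.mk ⟨D.d, D.d_mem⟩, Subtype.ext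
              (show D.d * z * D.d⁻¹ = v by rw [e, D.d_z])⟩
          · exact ⟨QuotientGroup.mk ⟨D.d * D.d, Subgroup.mul_mem _ D.d_mem D.d_mem⟩, Subtype.ext
              (show D.d * D.d * z * (D.d * D.d)⁻¹ = v by rw [e, ← conj_conj, D.d_z, D.d_s])⟩
      rw [Subgroup.card_eq_card_quotient_mul_card_subgroup P, Nat.card_congr (Equiv.ofBijective f hf),
        Nat.card_eq_finsetCard, hS, hPc]
    · obtain ⟨g, hg, e⟩ := D.trans v hv hc
      exact e ▸ hV3 g hg
  · right
    push Not at hV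
    obtain ⟨g₀, hg₀, hg₀U⟩ := hV
    set K0 := K with hK0
    set zK : ↥K := ⟨z, hzK⟩
    have hzK2 : orderOf zK = 2 := by rw [Subgroup.orderOf_mk]; exact h.order
    have hCzK : ∀ c : ↥K, c * zK = zK * c ↔
        ((c : G) = 1 ∨ (c : G) = z ∨ (c : G) = D.s ∨ (c : G) = D.s * z) := by
      intro c
      constructor
      · intro e
        have hcU : (c : G) ∈ D.U := by
          rw [D.U_eq]
          exact Subgroup.mem_inf.2 ⟨hKL c.2, mem_C.2 (congrArg Subtype.val e)⟩
        exact (hKU _ hcU).1 c.2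
      · intro e
        exact Subtype.ext (D.comm_U _ (D.four_mem e) z D.z_mem)
    have hC4 : Nat.card ↥(Subgroup.centralizer ({zK} : Set ↥K)) = 4 := by
      have h3 : D.s * z ≠ 1 := fun e => D.s_ne_z
        ((eq_inv_of_mul_eq_one_left e).trans (inv_eq_of_mul_eq_one_right h.zz))
      have h4 : D.s * z ≠ z := fun e => D.s_ne_one (mul_eq_right.1 e)
      have h5 : D.s * z ≠ D.s := fun e => h.z_ne_one (mul_eq_left.1 e)
      let S : Finset G := {1, z, D.s, D.s * z}
      have hS : S.card = 4 := by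
        rw [Finset.card_insert_of_notMem (by simp [h.z_ne_one.symm, D.s_ne_one.symm, h3.symm]),
          Finset.card_insert_of_notMem (by simp [D.s_ne_z.symm, h4.symm]),
          Finset.card_insert_of_notMem (by simp [h5.symm]), Finset.card_singleton]
      have hmemS : ∀ w, w ∈ S ↔ (w = 1 ∨ w = z ∨ w = D.s ∨ w = D.s * z) := fun w => by simp [S]
      rw [← hS, ← Nat.card_eq_finsetCard]
      refine Nat.card_congr ⟨fun c => ⟨((c : ↥K) : G), (hmemS _).2 ((hCzK c).1 (mem_C.1 c.2))⟩,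
        fun c => ⟨⟨c, (hKU _ (D.four_mem ((hmemS _).1 c.2))).2 ((hmemS _).1 c.2)⟩,
          mem_C.2 ((hCzK _).2 ((hmemS _).1 c.2))⟩, fun _ => rfl, fun _ => rfl⟩
    have hCe : ∀ c ∈ Subgroup.centralizer ({zK} : Set ↥K), c ^ 2 = 1 := fun c hc => Subtype.ext (by
      rw [SubmonoidClass.coe_pow, pow_two]
      exact D.exp_U _ (D.four_mem ((hCzK c).1 (mem_C.1 hc))))
    set V := Subgroup.centralizer ({zK} : Set ↥K) with hVdef
    have hVmem : ∀ c : ↥K, c ∈ V ↔
        ((c : G) = 1 ∨ (c : G) = z ∨ (c : G) = D.s ∨ (c : G) = D.s * z) :=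
      fun c => ⟨fun hc => (hCzK c).1 (mem_C.1 hc), fun hc => mem_C.2 ((hCzK c).2 hc)⟩
    have hVp : IsPGroup 2 ↥V := IsPGroup.of_card (n := 2) (by rw [hC4]; norm_num)
    obtain ⟨S', hS'⟩ := hVp.exists_le_sylow
    have hS'V : (S' : Subgroup ↥K) = V := by
      by_contra hne
      haveI : Group.IsNilpotent ↥(S' : Subgroup ↥K) := S'.isPGroup'.isNilpotent
      have hlt : V.subgroupOf (S' : Subgroup ↥K) < ⊤ := lt_top_iff_ne_top.2 fun e =>
        hne (le_antisymm (Subgroup.subgroupOf_eq_top.1 e) hS')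
      obtain ⟨y, hy, hyV⟩ := SetLike.exists_of_lt (Group.normalizerCondition_of_isNilpotent _ hlt)
      have hzV : zK ∈ V := mem_C.2 rfl
      have hyz : (y : ↥K) * zK * (y : ↥K)⁻¹ ∈ V :=
        (Subgroup.mem_normalizer_iff.1 hy ⟨zK, hS' hzV⟩).1 hzV
      set g : G := ((y : ↥K) : G) with hg
      have hgz := (hVmem _).1 hyz
      have hgzU : g * z * g⁻¹ ∈ D.U := D.four_mem hgz
      have hgn : ∀ u ∈ D.U, g * u * g⁻¹ ∈ D.U := by
        intro u hu
        rw [← D.centralizer_eq (g * z * g⁻¹)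
          ((D.zconj _ hgzU).1 (isConj_iff.2 ⟨g, rfl⟩))]
        rw [D.U_eq] at hu
        exact Subgroup.mem_inf.2 ⟨Subgroup.mul_mem _ (Subgroup.mul_mem _ (hKL (y : ↥K).2) hu.1)
          (Subgroup.inv_mem _ (hKL (y : ↥K).2)), conj_mem_centralizer hu.2⟩
      obtain ⟨u, hu, hcase⟩ := D.norm g (hKL (y : ↥K).2) hgn
      have hd1 : ∀ x : ↥K, x ∈ (S' : Subgroup ↥K) → (x : G) * x * x = 1 → (x : G) = 1 := by
        intro x hx h3
        obtain ⟨n, hn⟩ := S'.isPGroup' ⟨x, hx⟩
        have h2 : (x : G) ^ 2 ^ n = 1 := congrArg (fun w : ↥(S' : Subgroup ↥K) => ((w : ↥K) : G)) hn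
        have h3' : (x : G) ^ 3 = 1 := by rw [pow_three', h3]
        have := Nat.dvd_gcd (orderOf_dvd_of_pow_eq_one h2) (orderOf_dvd_of_pow_eq_one h3')
        rw [Nat.Coprime.gcd_eq_one (Nat.Coprime.pow_left n (by norm_num))] at this
        exact orderOf_eq_one_iff.1 (Nat.eq_one_of_dvd_one this)
      have huK : ∀ c ∈ K, g = c * u → u ∈ V.map K.subtype := fun c hc e => by
        have hu' : u ∈ K := by
          have : u = c⁻¹ * g := by rw [e]; group
          exact this ▸ K.mul_mem (K.inv_mem hc) (y : ↥K).2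
        exact ⟨⟨u, hu'⟩, (hVmem _).2 ((hKU u hu).1 hu'), rfl⟩
      rcases hcase with e | e | e
      · obtain ⟨w, hw, hwu⟩ := huK 1 K.one_mem (by rw [one_mul]; exact e)
        exact hyV (show (y : ↥K) ∈ V from (show w = (y : ↥K) from
          Subtype.ext (hwu.trans e.symm)) ▸ hw)
      · obtain ⟨w, hw, hwu⟩ := huK D.d hdK e
        have hd := hd1 ⟨D.d, hdK⟩ ((show (⟨D.d, hdK⟩ : ↥K) = (y : ↥K) * w⁻¹ from Subtype.ext (by
          show D.d = g * (w : G)⁻¹
          rw [e, show (w : G) = u from hwu, mul_inv_cancel_right])) ▸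
            Subgroup.mul_mem _ y.2 (Subgroup.inv_mem _ (hS' hw))) D.d_cube
        have := D.d_z
        rw [show D.d = 1 from hd] at this
        exact D.s_ne_z (by rw [← this]; group)
      · obtain ⟨w, hw, hwu⟩ := huK (D.d * D.d) (K.mul_mem hdK hdK) e
        have hd := hd1 ⟨D.d * D.d, K.mul_mem hdK hdK⟩
          ((show (⟨D.d * D.d, K.mul_mem hdK hdK⟩ : ↥K) = (y : ↥K) * w⁻¹ from Subtype.ext (by
            show D.d * D.d = g * (w : G)⁻¹
            rw [e, show (w : G) = u from hwu, mul_inv_cancel_right])) ▸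
              Subgroup.mul_mem _ y.2 (Subgroup.inv_mem _ (hS' hw))) (by
            show D.d * D.d * (D.d * D.d) * (D.d * D.d) = 1
            rw [show D.d * D.d * (D.d * D.d) * (D.d * D.d) = D.d * D.d * D.d * (D.d * D.d * D.d) by
              group, D.d_cube, one_mul])
        have hdd : D.d * D.d = 1 := hd
        have := D.d_z
        rw [show D.d = 1 by simpa [hdd] using D.d_cube] at this
        exact D.s_ne_z (by rw [← this]; group)
    have hnc : ¬ HasNormalPComplement 2 ↥K := by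
      rintro ⟨S, N, hN, hcomp⟩
      haveI := hN
      have hNodd : ¬ 2 ∣ Nat.card N := hcomp.index_eq_card ▸ S.not_dvd_index
      have hidx : N.index = 4 := by
        rw [hcomp.symm.index_eq_card, S.card_eq_multiplicity, ← S'.card_eq_multiplicity, hS'V, hC4]
      let f : ↥V →* ↥K ⧸ N := (QuotientGroup.mk' N).comp V.subtype
      have hfinj : Function.Injective f := by
        rw [← MonoidHom.ker_eq_bot_iff, eq_bot_iff]
        intro x hx
        have hxN : (x : ↥K) ∈ N := (QuotientGroup.eq_one_iff _).1 hx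
        refine Subgroup.mem_bot.2 (Subtype.ext (by_contra fun h1 => hNodd ?_))
        have ho : orderOf (x : ↥K) = 2 := orderOf_eq_prime (hCe _ x.2) h1
        exact ho ▸ Subgroup.orderOf_dvd_natCard N hxN
      have hfsurj : Function.Surjective f := ((Nat.bijective_iff_injective_and_card f).2
        ⟨hfinj, by rw [hC4, ← Subgroup.index, hidx]⟩).2
      have hcommQ : ∀ a b : ↥K ⧸ N, a * b = b * a := by
        intro a b
        obtain ⟨a, rfl⟩ := hfsurj a
        obtain ⟨b, rfl⟩ := hfsurj b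
        rw [← map_mul, ← map_mul]
        refine congrArg f (Subtype.ext (Subtype.ext ?_))
        exact D.comm_U _ (D.four_mem ((hVmem _).1 a.2)) _ (D.four_mem ((hVmem _).1 b.2))
      have hs' : (⟨D.s, hsK⟩ : ↥K) ∈ V := (hVmem _).2 (Or.inr (Or.inr (Or.inl rfl)))
      have hz' : zK ∈ V := mem_C.2 rfl
      have heq : f ⟨_, hs'⟩ = f ⟨_, hz'⟩ := by
        show QuotientGroup.mk' N ⟨D.s, hsK⟩ = QuotientGroup.mk' N zK
        rw [show (⟨D.s, hsK⟩ : ↥K) = ⟨D.d, hdK⟩ * zK * ⟨D.d, hdK⟩⁻¹ from Subtype.ext D.d_z.symm,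
          map_mul, map_mul, map_inv, hcommQ (QuotientGroup.mk' N ⟨D.d, hdK⟩), mul_inv_cancel_right]
      exact D.s_ne_z (congrArg (fun x : ↥V => ((x : ↥K) : G)) (hfinj heq))
    have hne' : ∀ W : Subgroup ↥K, W.Normal → IsElementaryAbelian 2 W →
        Nat.card ↥W ≠ 2 ∧ Nat.card ↥W ≠ 4 := by
      intro W hWn hWe
      haveI := hWn
      have hWp : IsPGroup 2 ↥W := fun x => ⟨1, Subtype.ext (by
        rw [SubmonoidClass.coe_pow, pow_one]; exact hWe.2 x x.2)⟩
      have hWV : W ≤ V := by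
        rw [← hS'V]
        have hp : IsPGroup 2 ↥(W ⊔ (S' : Subgroup ↥K)) :=
          hWp.to_sup_of_normal_left S'.isPGroup'
        exact le_sup_left.trans (S'.is_maximal' hp le_sup_right).le
      constructor
      · intro h2
        obtain ⟨w, hw, huniq⟩ := (Nat.card_eq_two_iff' (1 : ↥W)).1 h2
        have hwV := (hVmem _).1 (hWV w.2)
        have hfix : D.d * ((w : ↥K) : G) * D.d⁻¹ = ((w : ↥K) : G) := by
          have hmem := hWn.conj_mem (w : ↥K) w.2 ⟨D.d, hdK⟩
          have := huniq ⟨_, hmem⟩ fun e => hw (Subtype.ext (conj_eq_one_iff.1 (congrArg Subtype.val e)))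
          exact congrArg (fun x : ↥W => ((x : ↥K) : G)) this
        have h1 := (D.avg_eq_one_iff h.z_ne_one (D.four_mem hwV)).2 hwV
        rw [D.avg_fixed (Subgroup.mem_inf.2
          ⟨D.four_mem hwV, mem_C.2 (mul_inv_eq_iff_eq_mul.1 hfix).symm⟩)] at h1
        exact hw (Subtype.ext (Subtype.ext h1))
      · intro h4
        have hWeq : W = V := Subgroup.eq_of_le_of_card_ge hWV (by rw [h4, hC4])
        obtain ⟨u, hu, k, hk, e⟩ := hKfac g₀ hg₀
        have hkV : (⟨k, hk⟩ : ↥K) * zK * (⟨k, hk⟩ : ↥K)⁻¹ ∈ V :=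
          hWeq ▸ hWn.conj_mem _ (hWeq ▸ (mem_C.2 rfl : zK ∈ V)) _
        have hkU : k * z * k⁻¹ ∈ D.U := D.four_mem ((hVmem _).1 hkV)
        apply hg₀U
        rw [e, ← conj_conj, D.comm_U u hu.1 _ hkU, mul_inv_cancel_right]
        exact hkU
    obtain ⟨eK⟩ := Cfsg.Agent.S3277.result zK hzK2 hC4 hCe hnc hne'
    refine ⟨?_, K, ⟨eK⟩, hKL, hKn, hdK, hzK, hsK, hKU, hKfac⟩
    rw [← hKcard, Nat.card_congr eK.toEquiv, alt_card]

end HJ

end CfsgLib.InvChar.HallJanko
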