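import Cfsg.Agent.Lib.InvChar.HallJanko.CentTK

/-!
Orders in `C(z)` and the count of involution pairs at `z`.
-/

set_option autoImplicit false
set_option linter.unusedSectionVars false
set_option linter.style.haveILetI false
set_option synthInstance.maxSize 2000

open Cfsg

namespace CfsgLib.InvChar.HallJanko

universe u

theorem alt_five_pairs : ∀ g : alternatingGroup (Fin 5), g ^ 5 = 1 → g ≠ 1 →
    (Finset.univ.filter fun w : alternatingGroup (Fin 5) => w * g = g * w).card = 5 ∧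
    ∀ n : Fin 5, (g : Equiv.Perm (Fin 5)) n ≠ n ∧
      (g : Equiv.Perm (Fin 5)) ((g : Equiv.Perm (Fin 5)) n) ≠ n := by
  decide +kernel

variable {G : Type u} [Group G] [Finite G]

theorem comm_of_mem_zpowers {u x y : G} (hu : u * u = 1) (hx : x * x = 1) (hy : y * y = 1)
    (h : u ∈ Subgroup.zpowers (x * y)) : x * u = u * x ∧ y * u = u * y := by
  obtain ⟨m, hm⟩ := Subgroup.mem_zpowers_iff.1 h
  have hxi : x⁻¹ = x := inv_eq_of_mul_eq_one_right hx
  have hyi : y⁻¹ = y := inv_eq_of_mul_eq_one_right hy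
  have hui : u⁻¹ = u := inv_eq_of_mul_eq_one_right hu
  have aux : ∀ w : G, w * (x * y) * w⁻¹ = (x * y)⁻¹ → w * u = u * w := by
    intro w hw
    have e : w * u * w⁻¹ = u := by
      have h1 : w * (x * y) ^ m * w⁻¹ = ((x * y) ^ m)⁻¹ := by rw [← conj_zpow, hw, inv_zpow]
      rwa [hm, hui] at h1
    exact mul_inv_eq_iff_eq_mul.1 e
  refine ⟨aux x ?_, aux y ?_⟩
  · rw [hxi, ← mul_assoc, hx, one_mul, mul_inv_rev, hxi, hyi]
  · rw [mul_inv_rev x y, hxi, hyi, mul_assoc, mul_assoc, hy, mul_one]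

namespace HJ

variable {z : G} {Q : Subgroup G} (h : HJ z Q)
include h

theorem card_C : Nat.card (Subgroup.centralizer ({z} : Set G)) = 1920 := by
  obtain ⟨φ, hφs, hφk⟩ := h.quot
  have hker : φ.ker = Q.subgroupOf (Subgroup.centralizer ({z} : Set G)) := by
    ext x
    rw [MonoidHom.mem_ker, hφk]
    rfl
  rw [Subgroup.card_eq_card_quotient_mul_card_subgroup φ.ker,
    Nat.card_congr (QuotientGroup.quotientKerEquivRange φ).toEquiv,
    MonoidHom.range_eq_top.2 hφs, Subgroup.card_top, alt_card, hker,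
    Nat.card_congr (Subgroup.subgroupOfEquivOfLe h.le).toEquiv, h.card]

theorem exists_order_five : ∃ f ∈ Subgroup.centralizer ({z} : Set G), orderOf f = 5 := by
  haveI : Fact (Nat.Prime 5) := ⟨Nat.prime_five⟩
  obtain ⟨f, hf⟩ := exists_prime_orderOf_dvd_card' (G := ↥(Subgroup.centralizer ({z} : Set G))) 5
    (by rw [h.card_C]; norm_num)
  exact ⟨f, f.2, by rw [Subgroup.orderOf_coe, hf]⟩

theorem card_centralizer_five {f : G} (hfH : f ∈ Subgroup.centralizer ({z} : Set G))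
    (hf : orderOf f = 5) :
    Nat.card ↥(Subgroup.centralizer ({f} : Set G) ⊓ Subgroup.centralizer ({z} : Set G)) = 10 := by
  classical
  haveI := Fintype.ofFinite G
  obtain ⟨F⟩ := h.nonempty_frame
  set H := Subgroup.centralizer ({z} : Set G) with hH
  have hfQ : f ∉ Q := fun hq => by
    have := Subgroup.orderOf_dvd_natCard Q hq
    rw [hf, h.card] at this
    norm_num at this
  set φ5 := F.ψ ⟨f, hfH⟩ with hφ5
  have hne : φ5 ≠ 1 := fun e => hfQ ((F.ker _).1 e)
  have hp5 : φ5 ^ 5 = 1 := by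
    rw [hφ5, ← map_pow, show (⟨f, hfH⟩ : ↥H) ^ 5 = 1 from Subtype.ext (by
      rw [SubmonoidClass.coe_pow]; exact hf ▸ pow_orderOf_eq_one f), map_one]
  obtain ⟨hc5, hmove⟩ := alt_five_pairs φ5 hp5 hne
  set C := Subgroup.centralizer ({f} : Set G) ⊓ H with hC
  let θ : ↥C →* alternatingGroup (Fin 5) := F.ψ.comp (Subgroup.inclusion inf_le_right)
  have hrange : Nat.card θ.range ≤ 5 := by
    refine le_trans ?_ hc5.le
    rw [← Nat.card_eq_finsetCard]
    refine Nat.card_le_card_of_injective (fun w => ⟨w.1, ?_⟩)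
      fun a b e => Subtype.ext (congrArg (fun v => v.1) e)
    refine Finset.mem_filter.2 ⟨Finset.mem_univ _, ?_⟩
    obtain ⟨u, hu⟩ := w.2
    rw [← hu, hφ5]
    show F.ψ (Subgroup.inclusion _ u) * F.ψ _ = F.ψ _ * F.ψ (Subgroup.inclusion _ u)
    rw [← map_mul, ← map_mul]
    exact congrArg F.ψ (Subtype.ext (mem_C.1 u.2.1))
  have hker : Nat.card θ.ker ≤ 2 := by
    have h2 : ({1, z} : Finset G).card ≤ 2 := Finset.card_le_two
    refine le_trans ?_ h2
    rw [← Nat.card_eq_finsetCard]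
    refine Nat.card_le_card_of_injective (fun w => ⟨((w.1 : ↥C) : G), ?_⟩) fun a b e =>
      Subtype.ext (Subtype.ext (congrArg (fun v => v.1) e))
    obtain ⟨⟨q, hqC⟩, hqk⟩ := w
    have hqQ : q ∈ Q := (F.ker _).1 hqk
    have hqf : f * q * f⁻¹ = q := mul_inv_eq_iff_eq_mul.2 (mem_C.1 hqC.1).symm
    show q ∈ ({1, z} : Finset G)
    rw [Finset.mem_insert, Finset.mem_singleton]
    rcases F.cases_mem h hqQ with e | ⟨n, e⟩ | ⟨n, n', hnn, e⟩
    · rcases e with e | e
      · exact Or.inl e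
      · exact Or.inr (by rw [e, one_mul])
    · exfalso
      refine (hmove n).1 (F.inj _ _ (Eqv.trans' h.zz (Eqv.symm' h.zz (F.act ⟨f, hfH⟩ n)) ?_))
      refine Eqv.trans' h.zz (Eqv.symm' h.zz (Eqv.conj' (mem_C.1 hfH) e)) ?_
      rwa [hqf]
    · exfalso
      have e' : Eqv z (F.a ((φ5 : Equiv.Perm (Fin 5)) n) * F.a ((φ5 : Equiv.Perm (Fin 5)) n'))
          (F.a n * F.a n') := by
        refine Eqv.trans' h.zz (Eqv.symm' h.zz (F.act_pair h ⟨f, hfH⟩ n n')) ?_
        refine Eqv.trans' h.zz (Eqv.symm' h.zz (Eqv.conj' (mem_C.1 hfH) e)) ?_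
        rwa [hqf]
      rcases F.pair_inj h (fun he => hnn ((φ5 : Equiv.Perm (Fin 5)).injective he)) hnn e' with
        ⟨e1, -⟩ | ⟨e1, e2⟩
      · exact (hmove n).1 e1
      · exact (hmove n).2 (by rw [e1, e2])
  have hle : Nat.card ↥C ≤ 10 := by
    rw [Subgroup.card_eq_card_quotient_mul_card_subgroup θ.ker,
      Nat.card_congr (QuotientGroup.quotientKerEquivRange θ).toEquiv]
    exact (Nat.mul_le_mul hrange hker).trans (by norm_num)
  have hzC : z ∈ C := Subgroup.mem_inf.2 ⟨mem_C.2 (mem_C.1 hfH).symm, mem_C.2 rfl⟩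
  have hfC : f ∈ C := Subgroup.mem_inf.2 ⟨mem_C.2 rfl, hfH⟩
  have h2 : 2 ∣ Nat.card ↥C := h.order ▸ Subgroup.orderOf_dvd_natCard C hzC
  have h5 : 5 ∣ Nat.card ↥C := hf ▸ Subgroup.orderOf_dvd_natCard C hfC
  have h10 : 10 ∣ Nat.card ↥C := Nat.Coprime.mul_dvd_of_dvd_of_dvd (by norm_num : Nat.Coprime 2 5) h2 h5
  exact le_antisymm hle (Nat.le_of_dvd Nat.card_pos h10)

/-- The involution pairs at `z`. -/
theorem card_pairs {t : G} (htH : t ∈ Subgroup.centralizer ({z} : Set G)) (htQ : t ∉ Q)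
    (htt : t * t = 1) :
    Nat.card {q : G × G // IsConj z q.1 ∧ IsConj t q.2 ∧ z ∈ Subgroup.zpowers (q.1 * q.2)} = 960 := by
  classical
  haveI := Fintype.ofFinite G
  obtain ⟨F⟩ := h.nonempty_frame
  set H := Subgroup.centralizer ({z} : Set G) with hH
  have htz := h.not_isConj_z htH htQ htt
  have hord_t : orderOf t = 2 := orderOf_two htt fun e => htQ (e ▸ Q.one_mem)
  have hconjt : ∀ {y : G}, y ∈ H → orderOf y = 2 → (IsConj t y ↔ y ∉ Q) := by
    intro y hy hy2
    constructor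
    · exact fun hc hq => htz ((h.isConj_z_of_mem hq hy2).trans hc.symm)
    · intro hq
      obtain ⟨g, -, e⟩ := h.exists_conj_C htH htQ htt hy hq (mul_self_of_orderOf hy2)
      exact isConj_iff.2 ⟨g, e⟩
  -- involutions of one coset
  have hcoset : ∀ π : alternatingGroup (Fin 5), π * π = 1 → π ≠ 1 →
      Nat.card {y : ↥H // F.ψ y = π ∧ (y : G) * y = 1} = 8 := by
    intro π hπ2 hπ1
    obtain ⟨g, hg⟩ := alt_invol_conj (F.ψ ⟨t, htH⟩) π (fun e => htQ ((F.ker _).1 e))
      (F.psi_sq h (Or.inl htt)) hπ1 hπ2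
    obtain ⟨c, hc⟩ := F.surj g
    set y0 : ↥H := c * ⟨t, htH⟩ * c⁻¹ with hy0
    have hψ0 : F.ψ y0 = π := by rw [hy0, map_mul, map_mul, map_inv, hc, hg]
    have hy00 : (y0 : G) * y0 = 1 := by
      show (c : G) * t * (c : G)⁻¹ * ((c : G) * t * (c : G)⁻¹) = 1
      rw [show (c : G) * t * (c : G)⁻¹ * ((c : G) * t * (c : G)⁻¹) =
        (c : G) * (t * t) * (c : G)⁻¹ by group, htt, mul_one, mul_inv_cancel]
    have hy0Q : (y0 : G) ∉ Q := fun hq => hπ1 (hψ0.symm.trans ((F.ker _).2 hq))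
    obtain ⟨s, hsQ, hss, hs1, hsz, hts, hCQ, -, -⟩ := h.four_structure y0.2 hy0Q hy00
    let P : Subgroup ↥Q := (Subgroup.centralizer ({(y0 : G)} : Set G)).subgroupOf Q
    have hP : Nat.card P = 4 := by
      let S : Finset G := {1, z, s, s * z}
      have h3 : s * z ≠ 1 := fun e => hsz
        ((eq_inv_of_mul_eq_one_left e).trans (inv_eq_of_mul_eq_one_right h.zz))
      have h4 : s * z ≠ z := fun e => hs1 (mul_eq_right.1 e)
      have h5 : s * z ≠ s := fun e => h.z_ne_one (mul_eq_left.1 e)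
      have hS : S.card = 4 := by
        rw [Finset.card_insert_of_notMem (by simp [h.z_ne_one.symm, hs1.symm, h3.symm]),
          Finset.card_insert_of_notMem (by simp [hsz.symm, h4.symm]),
          Finset.card_insert_of_notMem (by simp [h5.symm]), Finset.card_singleton]
      have hmemS : ∀ w, w ∈ S ↔ (w = 1 ∨ w = z ∨ w = s ∨ w = s * z) := fun w => by simp [S]
      have hback : ∀ w, w ∈ S → w ∈ Q ∧ w * (y0 : G) = y0 * w := by
        intro w hw
        have hyz : (y0 : G) * z = z * y0 := mem_C.1 y0.2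
        rcases (hmemS w).1 hw with e | e | e | e <;> rw [e]
        · exact ⟨Q.one_mem, by rw [one_mul, mul_one]⟩
        · exact ⟨h.z_mem, hyz.symm⟩
        · exact ⟨hsQ, hts.symm⟩
        · exact ⟨Q.mul_mem hsQ h.z_mem,
            ((show Commute (y0 : G) s from hts).mul_right (show Commute (y0 : G) z from hyz)).symm.eq⟩
      rw [← hS, ← Nat.card_eq_finsetCard]
      refine Nat.card_congr ⟨fun q => ⟨((q.1 : ↥Q) : G), (hmemS _).2
          (hCQ _ q.1.2 (mem_C.1 (Subgroup.mem_subgroupOf.1 q.2)).symm)⟩,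
        fun w => ⟨⟨w, (hback _ w.2).1⟩, Subgroup.mem_subgroupOf.2 (mem_C.2 (hback _ w.2).2)⟩,
        fun _ => rfl, fun _ => rfl⟩
    let T := {y : ↥H // F.ψ y = π ∧ (y : G) * y = 1}
    let toT : ↥Q → T := fun q => ⟨⟨q, h.le q.2⟩ * y0 * ⟨q, h.le q.2⟩⁻¹, by
      refine ⟨?_, ?_⟩
      · rw [map_mul, map_mul, map_inv, (F.ker ⟨q, h.le q.2⟩).2 q.2, one_mul, inv_one, mul_one, hψ0]
      · show (q : G) * y0 * (q : G)⁻¹ * ((q : G) * y0 * (q : G)⁻¹) = 1
        rw [show (q : G) * y0 * (q : G)⁻¹ * ((q : G) * y0 * (q : G)⁻¹) =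
          (q : G) * ((y0 : G) * y0) * (q : G)⁻¹ by group, hy00, mul_one, mul_inv_cancel]⟩
    have hiff : ∀ a b : ↥Q, a⁻¹ * b ∈ P ↔ toT a = toT b := by
      intro a b
      rw [Subgroup.mem_subgroupOf, mem_C]
      show (a : G)⁻¹ * b * y0 = y0 * ((a : G)⁻¹ * b) ↔ _
      constructor
      · intro e
        refine Subtype.ext (Subtype.ext ?_)
        show (a : G) * y0 * (a : G)⁻¹ = (b : G) * y0 * (b : G)⁻¹
        calc (a : G) * y0 * (a : G)⁻¹ = (a : G) * ((y0 : G) * ((a : G)⁻¹ * b)) * (b : G)⁻¹ := by group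
          _ = (b : G) * y0 * (b : G)⁻¹ := by rw [← e]; group
      · intro e
        have e' : (a : G) * y0 * (a : G)⁻¹ = (b : G) * y0 * (b : G)⁻¹ :=
          congrArg (fun v : T => ((v.1 : ↥H) : G)) e
        calc (a : G)⁻¹ * b * y0 = (a : G)⁻¹ * ((b : G) * y0 * (b : G)⁻¹) * b := by group
          _ = y0 * ((a : G)⁻¹ * b) := by rw [← e']; group
    let f : ↥Q ⧸ P → T := fun q => Quotient.liftOn' q toT
      (fun a b hab => (hiff a b).1 (QuotientGroup.leftRel_apply.1 hab))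
    have hf : Function.Bijective f := by
      constructor
      · intro p q
        induction p using QuotientGroup.induction_on with
        | H a =>
          induction q using QuotientGroup.induction_on with
          | H b => exact fun e => QuotientGroup.eq.2 ((hiff a b).2 e)
      · rintro ⟨y, hy, hy2⟩
        have hq : (y0 : G)⁻¹ * y ∈ Q := (F.ker (y0⁻¹ * y)).1 (by
          rw [map_mul, map_inv, hψ0, hy, inv_mul_cancel])
        obtain ⟨-, q, hqQ, e⟩ := h.conj_of_coset y0.2 hy0Q hy00 hq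
          (Or.inl (by rw [mul_inv_cancel_left, hy2]))
        rw [mul_inv_cancel_left] at e
        exact ⟨QuotientGroup.mk ⟨q, hqQ⟩, Subtype.ext (Subtype.ext e)⟩
    have e := Subgroup.card_eq_card_quotient_mul_card_subgroup P
    rw [h.card, hP, Nat.card_congr (Equiv.ofBijective f hf)] at e
    show Nat.card T = 8
    omega
  let M : Fin 5 → Type := fun i =>
    {π : alternatingGroup (Fin 5) // π * π = 1 ∧ (π : Equiv.Perm (Fin 5)) i ≠ i}
  let T : alternatingGroup (Fin 5) → Type u := fun π =>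
    {y : ↥H // F.ψ y = π ∧ (y : G) * y = 1}
  let W := Σ i : Fin 5, Bool × (Σ π : M i, T π.1)
  let X := {q : G × G // IsConj z q.1 ∧ IsConj t q.2 ∧ z ∈ Subgroup.zpowers (q.1 * q.2)}
  have hxa : ∀ (i : Fin 5) (b : Bool), (if b then F.a i * z else F.a i) ∈ Q ∧
      orderOf (if b then F.a i * z else F.a i) = 2 ∧ Eqv z (if b then F.a i * z else F.a i) (F.a i) := by
    intro i b
    cases b
    · simpa using ⟨F.mem i, orderOf_two (F.sq i) (F.ne_one i), Eqv.rfl' z _⟩
    · refine ⟨Q.mul_mem (F.mem i) h.z_mem, orderOf_two ?_ fun e => F.ne_z i ?_, Or.inr rfl⟩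
      · show F.a i * z * (F.a i * z) = 1
        rw [show F.a i * z * (F.a i * z) = F.a i * (z * F.a i) * z by group, ← h.comm_z (F.mem i),
          ← mul_assoc, F.sq, one_mul, h.zz]
      · exact (eq_inv_of_mul_eq_one_left e).trans (inv_eq_of_mul_eq_one_right h.zz)
  have hpow : ∀ (i : Fin 5) (x : G) (y : ↥H), Eqv z x (F.a i) → x ∈ Q → x * x = 1 →
      (y : G) * y = 1 → (F.ψ y : Equiv.Perm (Fin 5)) i ≠ i → z ∈ Subgroup.zpowers (x * (y : G)) := by
    intro i x y hx hxQ hxx hyy hmv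
    set j := (F.ψ y : Equiv.Perm (Fin 5)) i
    have hyi : (y : G)⁻¹ = y := inv_eq_of_mul_eq_one_right hyy
    have hclass : Eqv z (x * ((y : G) * x * (y : G)⁻¹)) (F.a i * F.a j) :=
      Eqv.mul' h.zz (h.comm_z (F.mem j)) hx (Eqv.trans' h.zz (Eqv.conj' (mem_C.1 y.2) hx) (F.act y i))
    have e4 := h.sq_eqv (F.pair_mem h i j) hclass
    rw [F.pair_sq h (Ne.symm hmv)] at e4
    refine Subgroup.mem_zpowers_iff.2 ⟨4, ?_⟩
    rw [← e4, hyi, zpow_ofNat]
    simp [pow_succ, mul_assoc]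
  let Φ : W → X := fun w => ⟨((if w.2.1 then F.a w.1 * z else F.a w.1), ((w.2.2.2.1 : ↥H) : G)), by
    obtain ⟨i, b, ⟨π, hπ2, hπi⟩, ⟨y, hy, hyy⟩⟩ := w
    obtain ⟨hQ', ho, he⟩ := hxa i b
    have hπ1 : π ≠ 1 := fun e => hπi (by rw [e]; rfl)
    have hyQ : (y : G) ∉ Q := fun hq => hπ1 (hy.symm.trans ((F.ker _).2 hq))
    refine ⟨h.isConj_z_of_mem hQ' ho,
      (hconjt y.2 (orderOf_two hyy fun e => hyQ (e ▸ Q.one_mem))).2 hyQ, ?_⟩
    exact hpow i _ y he hQ' (mul_self_of_orderOf ho) hyy (by rw [hy]; exact hπi)⟩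
  have hΦinj : Function.Injective Φ := by
    rintro ⟨i, b, ⟨π, hπ2, hπi⟩, ⟨y, hy, hyy⟩⟩ ⟨i', b', ⟨π', hπ2', hπi'⟩, ⟨y', hy', hyy'⟩⟩ e
    have e1 : (if b then F.a i * z else F.a i) = (if b' then F.a i' * z else F.a i') :=
      congrArg (fun q : X => q.1.1) e
    have e2 : (y : G) = y' := congrArg (fun q : X => q.1.2) e
    obtain rfl : i = i' := F.inj _ _ (Eqv.trans' h.zz (Eqv.symm' h.zz (hxa i b).2.2)
      (e1 ▸ (hxa i' b').2.2))
    obtain rfl : y = y' := Subtype.ext e2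
    obtain rfl : π' = π := hy'.symm.trans hy
    cases b <;> cases b' <;> simp only [Bool.false_eq_true, ↓reduceIte] at e1
    · rfl
    · exact absurd e1 fun e => h.z_ne_one (mul_eq_left.1 e.symm)
    · exact absurd e1 fun e => h.z_ne_one (mul_eq_left.1 e)
    · rfl
  have hΦsurj : Function.Surjective Φ := by
    rintro ⟨⟨x, y⟩, hx, hy, hzp⟩
    have hxo : orderOf x = 2 := (orderOf_isConj hx).symm.trans h.order
    have hyo : orderOf y = 2 := (orderOf_isConj hy).symm.trans hord_t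
    have hxx := mul_self_of_orderOf hxo
    have hyy := mul_self_of_orderOf hyo
    obtain ⟨hxH, hyH⟩ := comm_of_mem_zpowers h.zz hxx hyy hzp
    have hxQ : x ∈ Q := (h.isConj_z_iff (mem_C.2 hxH) hxo).1 hx
    have hyQ : y ∉ Q := (hconjt (mem_C.2 hyH) hyo).1 hy
    have hnc : x * y ≠ y * x := by
      intro hc
      have e2 : x * y * (x * y) = 1 := by
        rw [show x * y * (x * y) = x * (y * x) * y by group, ← hc, ← mul_assoc, hxx, one_mul, hyy]
      have hxyi : (x * y)⁻¹ = x * y := inv_eq_of_mul_eq_one_right e2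
      obtain ⟨m, hm⟩ := Subgroup.mem_zpowers_iff.1 hzp
      have hm' : z = 1 ∨ z = x * y := by
        rcases Int.even_or_odd' m with ⟨k, rfl | rfl⟩
        · left; rw [← hm, zpow_mul, zpow_two, e2, one_zpow]
        · right; rw [← hm, zpow_add, zpow_mul, zpow_two, e2, one_zpow, one_mul, zpow_one]
      rcases hm' with e | e
      · exact h.z_ne_one e
      · exact hyQ (by
          have : y = x * z := by rw [e, ← mul_assoc, hxx, one_mul]
          exact this ▸ Q.mul_mem hxQ h.z_mem)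
    obtain ⟨i, hi⟩ := F.all x hxQ hxx (fun e => hnc (by rw [e, one_mul, mul_one]))
      (fun e => hnc (by rw [e]; exact hyH.symm))
    set yH : ↥H := ⟨y, mem_C.2 hyH⟩ with hyHdef
    have hψ2 := F.psi_sq h (y := yH) (Or.inl hyy)
    have hψ1 : F.ψ yH ≠ 1 := fun e => hyQ ((F.ker _).1 e)
    have hmv : (F.ψ yH : Equiv.Perm (Fin 5)) i ≠ i := by
      intro hfix
      obtain ⟨k, i1, j1, l1, m1, p⟩ := F.exists_pattern h hψ1 hψ2
      obtain rfl := alt_invol_fixed_unique _ hψ1 hψ2 i k hfix p.fk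
      have hfk : y * F.a i = F.a i * y :=
        mul_inv_eq_iff_eq_mul.1 (F.fix_point h (y := yH) (Or.inl hyy) p)
      apply hnc
      rcases hi with e | e <;> rw [e]
      · exact hfk.symm
      · exact ((show Commute y (F.a i) from hfk).mul_right (show Commute y z from hyH)).symm.eq
    rcases hi with e | e
    · exact ⟨⟨i, false, ⟨F.ψ yH, hψ2, hmv⟩, ⟨yH, rfl, hyy⟩⟩, Subtype.ext (Prod.ext e.symm rfl)⟩
    · exact ⟨⟨i, true, ⟨F.ψ yH, hψ2, hmv⟩, ⟨yH, rfl, hyy⟩⟩, Subtype.ext (Prod.ext e.symm rfl)⟩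
  show Nat.card X = 960
  rw [← Nat.card_congr (Equiv.ofBijective Φ ⟨hΦinj, hΦsurj⟩), Nat.card_sigma]
  simp only [Nat.card_prod, Nat.card_sigma]
  have hT : ∀ i, ∀ π : M i, Nat.card (T π.1) = 8 := fun i π =>
    hcoset π.1 π.2.1 fun e => π.2.2 (by rw [e]; rfl)
  simp only [hT, Finset.sum_const, Finset.card_univ, smul_eq_mul]
  have hM : ∀ i, Fintype.card (M i) = 12 := fun i => by
    rw [← alt_moved_card i, Fintype.card_subtype]
  simp only [hM, Finset.sum_const, Finset.card_univ, Fintype.card_fin, smul_eq_mul, Nat.card_eq_fintype_card, Fintype.card_bool]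

end HJ

end CfsgLib.InvChar.HallJanko
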